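import Groth.Agent.FTorColim.Basic
import Mathlib.Algebra.Homology.Augment

/-!
Balancing of `Tor` over a commutative ring: `Tor_n(M, N) ≅ H_n(P ⊗ N)` for a projective resolution `P` of `M`.
-/

set_option autoImplicit false
universe u

open CategoryTheory CategoryTheory.Limits MonoidalCategory HomologicalComplex

namespace Groth.Agent.FTorColim

variable {A : Type u} [CommRing A]

/-- The first syzygy. -/
noncomputable abbrev syz {M : ModuleCat.{u} A} (P : ProjectiveResolution M) : ModuleCat.{u} A :=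
  kernel (P.π.f 0)

noncomputable def toSyz {M : ModuleCat.{u} A} (P : ProjectiveResolution M) : P.complex.X 1 ⟶ syz P :=
  kernel.lift _ (P.complex.d 1 0) P.complex_d_comp_π_f_zero

instance epi_toSyz {M : ModuleCat.{u} A} (P : ProjectiveResolution M) : Epi (toSyz P) :=
  (ShortComplex.exact_iff_epi_kernel_lift _).1 P.exact₀

lemma d_toSyz {M : ModuleCat.{u} A} (P : ProjectiveResolution M) : P.complex.d 2 1 ≫ toSyz P = 0 :=
  (cancel_mono (kernel.ι _)).1 (by
    rw [toSyz, Category.assoc]
    erw [kernel.lift_ι, P.complex.d_comp_d, zero_comp])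

lemma exact_toSyz {M : ModuleCat.{u} A} (P : ProjectiveResolution M) :
    (ShortComplex.mk _ _ (d_toSyz P)).Exact := by
  let φ : ShortComplex.mk _ _ (d_toSyz P) ⟶ ShortComplex.mk _ _ (P.complex.d_comp_d 2 1 0) :=
    { τ₁ := 𝟙 _, τ₂ := 𝟙 _, τ₃ := kernel.ι _, comm₂₃ := (Category.id_comp _).trans (kernel.lift_ι _ _ _).symm }
  exact (ShortComplex.exact_iff_of_epi_of_isIso_of_mono φ).2 (P.exact_succ 0)

/-- The truncated resolution of the syzygy. -/
noncomputable def syzRes {M : ModuleCat.{u} A} (P : ProjectiveResolution M) : ProjectiveResolution (syz P) where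
  complex := ChainComplex.truncate.obj P.complex
  projective n := P.projective (n + 1)
  π := (ChainComplex.toSingle₀Equiv _ _).symm ⟨toSyz P, d_toSyz P⟩
  quasiIso := ⟨fun n => by
    cases n with
    | succ n =>
      rw [quasiIsoAt_iff_exactAt']
      · rw [exactAt_iff' _ (n + 2) (n + 1) n (by simp) (by simp)]
        exact P.exact_succ (n + 1)
      · exact ChainComplex.exactAt_succ_single_obj _ _
    | zero =>
      rw [ChainComplex.quasiIsoAt₀_iff, ShortComplex.quasiIso_iff_of_zeros']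
      · refine (ShortComplex.exact_and_epi_g_iff_of_iso (ShortComplex.isoMk (Iso.refl _) (Iso.refl _)
          (Iso.refl _) (by simp) (by simp))).2 ⟨exact_toSyz P, ?_⟩
        exact (inferInstance : Epi (toSyz P))
      all_goals first | rfl | (show (ChainComplex.truncate.obj P.complex).d 0 0 = 0; exact HomologicalComplex.shape _ 0 0 (fun h : 0 + 1 = 0 => Nat.succ_ne_zero 0 h))⟩

/-- Homology as the kernel of `opcycles → X`, transported along a description of the opcycles. -/
noncomputable def homologyIsoKernel (K : ChainComplex (ModuleCat.{u} A) ℕ) (n : ℕ)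
    {Y Z : ModuleCat.{u} A} (e : K.opcycles (n + 1) ≅ Y) (e' : K.X n ≅ Z) (g : Y ⟶ Z)
    (w : K.fromOpcycles (n + 1) n ≫ e'.hom = e.hom ≫ g) : K.homology (n + 1) ≅ kernel g :=
  (K.homologyIsKernel (n + 1) n (by simp)).conePointUniqueUpToIso (kernelIsKernel _) ≪≫
    kernel.mapIso _ _ e e' w

/-- The opcycles in degree zero of `X ⊗ Q`. -/
noncomputable def opcyclesZeroIso {N : ModuleCat.{u} A} (Q : ProjectiveResolution N) (X : ModuleCat.{u} A) :
    (DRingPC.tensorRes X Q).opcycles 0 ≅ X ⊗ N :=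
  haveI : PreservesFiniteColimits ((tensoringLeft (ModuleCat.{u} A)).obj X) :=
    inferInstanceAs (PreservesFiniteColimits (tensorLeft X))
  let F := (tensoringLeft (ModuleCat.{u} A)).obj X
  have : IsIso (Q.fromLeftDerivedZero' F) := inferInstance
  @asIso _ _ _ _ (Q.fromLeftDerivedZero' F) this

lemma opcyclesZeroIso_naturality {N : ModuleCat.{u} A} (Q : ProjectiveResolution N) {X Y : ModuleCat.{u} A}
    (f : X ⟶ Y) :
    opcyclesMap ((NatTrans.mapHomologicalComplex ((tensoringLeft (ModuleCat.{u} A)).map f) _).app Q.complex) 0 ≫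
      (opcyclesZeroIso Q Y).hom = (opcyclesZeroIso Q X).hom ≫ f ▷ N := by
  refine (cancel_epi (HomologicalComplex.pOpcycles _ _)).1 ?_
  simp only [opcyclesZeroIso, asIso_hom, HomologicalComplex.p_opcyclesMap_assoc,
    ProjectiveResolution.pOpcycles_comp_fromLeftDerivedZero',
    ProjectiveResolution.pOpcycles_comp_fromLeftDerivedZero'_assoc]
  erw [ProjectiveResolution.pOpcycles_comp_fromLeftDerivedZero'_assoc]
  exact (whisker_exchange f (Q.π.f 0)).symm

/-- `H₀(X ⊗ Q) ≅ X ⊗ N`. -/
noncomputable def homologyZeroIso {N : ModuleCat.{u} A} (Q : ProjectiveResolution N) (X : ModuleCat.{u} A) :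
    (DRingPC.tensorRes X Q).homology 0 ≅ X ⊗ N :=
  (DRingPC.tensorRes X Q).isoHomologyι₀ ≪≫ opcyclesZeroIso Q X

lemma hom_square {C : Type*} [Category C] {X₁ X₂ O₁ O₂ Y₁ Y₂ : C} {m : X₁ ⟶ X₂} {o : O₁ ⟶ O₂} {g : Y₁ ⟶ Y₂}
    (a₁ : X₁ ≅ O₁) (a₂ : X₂ ≅ O₂) (c₁ : O₁ ≅ Y₁) (c₂ : O₂ ≅ Y₂) (h1 : a₁.inv ≫ m = o ≫ a₂.inv)
    (h2 : o ≫ c₂.hom = c₁.hom ≫ g) : m ≫ (a₂ ≪≫ c₂).hom = (a₁ ≪≫ c₁).hom ≫ g := by
  have h3 : m = a₁.hom ≫ o ≫ a₂.inv := by rw [← h1, Iso.hom_inv_id_assoc]
  simp [h3, h2]

/-- Balancing. -/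
theorem nonempty_tor_iso (n : ℕ) : ∀ (M N : ModuleCat.{u} A) (P : ProjectiveResolution M),
    Nonempty (((CategoryTheory.Tor (ModuleCat.{u} A) n).obj M).obj N ≅
      (((tensorRight N).mapHomologicalComplex (ComplexShape.down ℕ)).obj P.complex).homology n) := by
  induction n with
  | zero =>
    intro M N P
    haveI : PreservesFiniteColimits ((tensoringLeft (ModuleCat.{u} A)).obj M) :=
      inferInstanceAs (PreservesFiniteColimits (tensorLeft M))
    haveI : PreservesFiniteColimits (tensorRight N) :=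
      preservesFiniteColimits_of_natIso (BraidedCategory.tensorLeftIsoTensorRight N)
    exact ⟨(((tensoringLeft (ModuleCat.{u} A)).obj M).leftDerivedZeroIsoSelf).app N ≪≫
      ((tensorRight N).leftDerivedZeroIsoSelf.app M).symm ≪≫ P.isoLeftDerivedObj (tensorRight N) 0⟩
  | succ n ih =>
    intro M N P
    let S : ShortComplex (ModuleCat.{u} A) := ShortComplex.mk (kernel.ι (P.π.f 0)) (P.π.f 0) (kernel.condition _)
    have hS : S.ShortExact :=
      { exact := ShortComplex.exact_of_f_is_kernel _ (kernelIsKernel _)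
        epi_g := (inferInstance : Epi (P.π.f 0)) }
    haveI : Module.Projective A (P.complex.X 0) := (IsProjective.iff_projective _).2 (P.projective 0)
    let Q := res A N
    have hT := DRingPC.tensorResSC_shortExact hS Q
    have hz : ∀ q, IsZero ((DRingPC.tensorRes S.X₂ Q).homology (q + 1)) := fun q =>
      @DRingPC.isZero_tensorRes_of_flat _ _ (P.complex.X 0) inferInstance _ Q q
    haveI hmono : Mono (hT.δ (n + 1) n (by simp)) :=
      (hT.homology_exact₃ (n + 1) n (by simp)).mono_g ((hz n).eq_of_src _ _)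
    cases n with
    | succ n =>
      have hrel : (ComplexShape.down ℕ).Rel (n + 2) (n + 1) := by simp
      haveI : Epi (hT.δ (n + 2) (n + 1) hrel) :=
        (hT.homology_exact₁ (n + 2) (n + 1) hrel).epi_f ((hz n).eq_of_tgt _ _)
      haveI : Mono (hT.δ (n + 2) (n + 1) hrel) :=
        (hT.homology_exact₃ (n + 2) (n + 1) hrel).mono_g ((hz (n + 1)).eq_of_src _ _)
      haveI hi : IsIso (hT.δ (n + 2) (n + 1) hrel) := isIso_of_mono_of_epi _
      obtain ⟨e⟩ := ih (syz P) N (syzRes P)
      let T := ((tensorRight N).mapHomologicalComplex (ComplexShape.down ℕ)).obj P.complex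
      let T' := ((tensorRight N).mapHomologicalComplex (ComplexShape.down ℕ)).obj (ChainComplex.truncate.obj P.complex)
      exact ⟨DRingPC.torIso M Q (n + 2) ≪≫ @asIso _ _ _ _ (hT.δ (n + 2) (n + 1) hrel) hi ≪≫
        (DRingPC.torIso (syz P) Q (n + 1)).symm ≪≫ e ≪≫
        (ShortComplex.homologyMapIso (T'.isoSc' (n + 2) (n + 1) n (by simp) (by simp))) ≪≫
        (ShortComplex.homologyMapIso (T.isoSc' (n + 3) (n + 2) (n + 1) (by simp) (by simp))).symm⟩
    | zero =>
      let g : syz P ⊗ N ⟶ P.complex.X 0 ⊗ N := kernel.ι (P.π.f 0) ▷ N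
      let m := homologyMap (DRingPC.tensorResSC (S := S) Q).f 0
      have hm : m ≫ (homologyZeroIso Q S.X₂).hom = (homologyZeroIso Q S.X₁).hom ≫ g := by
        have h1 := ChainComplex.isoHomologyι₀_inv_naturality ((DRingPC.tensorResSC (S := S) Q).f)
        have h2 := opcyclesZeroIso_naturality Q (kernel.ι (P.π.f 0))
        exact hom_square _ _ _ _ h1 h2
      let e₁ := ((hT.homology_exact₁ 1 0 rfl).fIsKernel).conePointUniqueUpToIso (kernelIsKernel m) ≪≫
        kernel.mapIso m g (homologyZeroIso Q S.X₁) (homologyZeroIso Q S.X₂) hm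
      let T := ((tensorRight N).mapHomologicalComplex (ComplexShape.down ℕ)).obj P.complex
      haveI : PreservesFiniteColimits (tensorRight N) :=
        preservesFiniteColimits_of_natIso (BraidedCategory.tensorLeftIsoTensorRight N)
      let c := CokernelCofork.mapIsColimit _ ((exact_toSyz P).gIsCokernel) (tensorRight N)
      let eo : T.opcycles 1 ≅ syz P ⊗ N := (T.opcyclesIsCokernel 2 1 (by simp)).coconePointUniqueUpToIso c
      have hw : T.fromOpcycles 1 0 ≫ (Iso.refl (P.complex.X 0 ⊗ N)).hom = eo.hom ≫ g := by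
        refine (cancel_epi (T.pOpcycles 1)).1 ?_
        have he : T.pOpcycles 1 ≫ eo.hom = toSyz P ▷ N :=
          IsColimit.comp_coconePointUniqueUpToIso_hom (T.opcyclesIsCokernel 2 1 (by simp)) c WalkingParallelPair.one
        refine ((congrArg (fun z => T.pOpcycles 1 ≫ z) (Category.comp_id _)).trans (T.p_fromOpcycles 1 0)).trans ?_
        rw [reassoc_of% he]
        exact ((comp_whiskerRight _ _ N).symm.trans (congrArg (fun z => z ▷ N) (kernel.lift_ι _ _ _))).symm
      exact ⟨DRingPC.torIso M Q 1 ≪≫ e₁ ≪≫ (homologyIsoKernel T 0 eo (Iso.refl _) g hw).symm⟩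

end Groth.Agent.FTorColim
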