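import Mathlib.CategoryTheory.Monoidal.Tor
import Mathlib.Algebra.Category.ModuleCat.LeftResolution
import Mathlib.Algebra.Category.ModuleCat.FilteredColimits
import Mathlib.Algebra.Category.ModuleCat.Monoidal.Closed
import Mathlib.Algebra.Category.ModuleCat.Monoidal.Basic
import Mathlib.CategoryTheory.Limits.Types.Filtered
import Groth.Agent.DRingPC.TorDim

/-!
Tor in the second variable commutes with filtered colimits: the functorial free resolution gives a functor
`N ↦ H_p(M ⊗ C(N))` naturally isomorphic to `Tor_p(M,-)`; dimension shifting in `M` then reduces to `M ⊗ -`.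
-/

set_option autoImplicit false
universe u

open CategoryTheory CategoryTheory.Limits MonoidalCategory

namespace Groth.Agent.FTorColim

variable (A : Type u) [CommRing A]

/-- The functorial free resolution. -/
noncomputable def resFunctor : ModuleCat.{u} A ⥤ ChainComplex (ModuleCat.{u} A) ℕ :=
  (ModuleCat.projectiveResolution A).chainComplexFunctor ⋙
    (ObjectProperty.ι (isProjective (ModuleCat.{u} A))).mapHomologicalComplex _

/-- Abbreviation for the functorial left resolution by projective modules. -/
noncomputable abbrev lres : Abelian.LeftResolution (ObjectProperty.ι (isProjective (ModuleCat.{u} A))) :=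
  ModuleCat.projectiveResolution A

/-- The augmentation in degree zero. -/
noncomputable def aug (N : ModuleCat.{u} A) :
    (ObjectProperty.ι (isProjective (ModuleCat.{u} A))).obj (((lres A).chainComplex N).X 0) ⟶ N :=
  (ObjectProperty.ι (isProjective (ModuleCat.{u} A))).map ((lres A).chainComplexXZeroIso N).hom ≫
    (lres A).π.app N

lemma d_aug (N : ModuleCat.{u} A) :
    (ObjectProperty.ι (isProjective (ModuleCat.{u} A))).map (((lres A).chainComplex N).d 1 0) ≫ aug A N = 0 := by
  rw [(lres A).map_chainComplex_d_1_0_assoc, aug, Iso.map_inv_hom_id_assoc, kernel.condition, comp_zero, comp_zero]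

lemma aug_naturality {N N' : ModuleCat.{u} A} (f : N ⟶ N') :
    (ObjectProperty.ι (isProjective (ModuleCat.{u} A))).map (((lres A).chainComplexMap f).f 0) ≫ aug A N' =
      aug A N ≫ f := by
  rw [Abelian.LeftResolution.chainComplexMap_f_0, aug, aug, Functor.map_comp, Functor.map_comp, Category.assoc,
    Category.assoc, Category.assoc, Iso.map_inv_hom_id_assoc, Abelian.LeftResolution.π_naturality]

lemma aug_exact (N : ModuleCat.{u} A) : (ShortComplex.mk _ _ (d_aug A N)).Exact := by
  rw [ShortComplex.exact_iff_epi_kernel_lift]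
  let e : kernel ((lres A).π.app N) ≅ kernel (aug A N) :=
    kernel.mapIso _ _ ((ObjectProperty.ι (isProjective (ModuleCat.{u} A))).mapIso ((lres A).chainComplexXZeroIso N).symm)
      (Iso.refl _) (by rw [aug, Iso.refl_hom, Category.comp_id, Functor.mapIso_hom, Iso.symm_hom,
        Iso.map_inv_hom_id_assoc])
  haveI : Epi ((lres A).π.app (kernel ((lres A).π.app N))) := (lres A).epi_π_app _
  convert! epi_comp ((ObjectProperty.ι (isProjective (ModuleCat.{u} A))).map ((lres A).chainComplexXOneIso N).hom)
    ((lres A).π.app (kernel ((lres A).π.app N)) ≫ e.hom)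
  rw [← cancel_mono (kernel.ι _), kernel.lift_ι, Category.assoc, Category.assoc]
  refine ((lres A).map_chainComplex_d_1_0 N).trans ?_
  congr 2
  exact (kernel.lift_ι _ _ _).symm

instance (N : ModuleCat.{u} A) : Epi (aug A N) := by
  haveI := (lres A).epi_π_app N
  exact epi_comp _ _

/-- The functorial free resolution as a projective resolution. -/
noncomputable def res (N : ModuleCat.{u} A) : ProjectiveResolution N where
  complex := (resFunctor A).obj N
  projective n := (((lres A).chainComplex N).X n).property
  π := (ChainComplex.toSingle₀Equiv _ _).symm ⟨aug A N, d_aug A N⟩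
  quasiIso := ⟨fun n => by
    cases n with
    | succ n =>
      rw [quasiIsoAt_iff_exactAt']
      · exact (lres A).exactAt_map_chainComplex_succ N n
      · exact ChainComplex.exactAt_succ_single_obj _ _
    | zero =>
      rw [ChainComplex.quasiIsoAt₀_iff, ShortComplex.quasiIso_iff_of_zeros']
      · exact (ShortComplex.exact_and_epi_g_iff_of_iso (ShortComplex.isoMk (Iso.refl _) (Iso.refl _)
          (Iso.refl _) (by simp) (by simp))).2 ⟨aug_exact A N, (inferInstance : Epi (aug A N))⟩
      all_goals first | rfl | (show ((resFunctor A).obj N).d 0 0 = 0; exact HomologicalComplex.shape _ 0 0 (fun h : 0 + 1 = 0 => Nat.succ_ne_zero 0 h))⟩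

/-- `H_p(M ⊗ C(-))`. -/
noncomputable def torFun (M : ModuleCat.{u} A) (p : ℕ) : ModuleCat.{u} A ⥤ ModuleCat.{u} A :=
  resFunctor A ⋙ ((tensoringLeft (ModuleCat.{u} A)).obj M).mapHomologicalComplex _ ⋙
    HomologicalComplex.homologyFunctor _ _ p

noncomputable def torFunIso (M : ModuleCat.{u} A) (p : ℕ) :
    (CategoryTheory.Tor (ModuleCat.{u} A) p).obj M ≅ torFun A M p :=
  NatIso.ofComponents (fun N => (res A N).isoLeftDerivedObj _ p) fun {N N'} f =>
    ProjectiveResolution.isoLeftDerivedObj_hom_naturality f (res A N) (res A N') ((resFunctor A).map f)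
      (by
        show ((resFunctor A).map f).f 0 ≫ ((ChainComplex.toSingle₀Equiv _ _).symm ⟨aug A N', d_aug A N'⟩).f 0 =
          ((ChainComplex.toSingle₀Equiv _ _).symm ⟨aug A N, d_aug A N⟩).f 0 ≫ f
        rw [ChainComplex.toSingle₀Equiv_symm_apply_f_zero, ChainComplex.toSingle₀Equiv_symm_apply_f_zero]
        exact aug_naturality A f) _ p

variable {A}

lemma preserves_of_exact {J : Type u} [SmallCategory J] [IsFiltered J]
    {K G H : ModuleCat.{u} A ⥤ ModuleCat.{u} A} (ι : K ⟶ G) (τ : G ⟶ H)
    (hι : ∀ N, Function.Injective (ι.app N)) (hex : ∀ N, Function.Exact (ι.app N) (τ.app N))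
    [PreservesColimitsOfShape J G] [PreservesColimitsOfShape J H] : PreservesColimitsOfShape J K where
  preservesColimit {D} := ⟨fun {c} hc => by
    refine ⟨isColimitOfReflects (forget (ModuleCat.{u} A)) ?_⟩
    have hG := isColimitOfPreserves (forget (ModuleCat.{u} A)) (isColimitOfPreserves G hc)
    have hH := isColimitOfPreserves (forget (ModuleCat.{u} A)) (isColimitOfPreserves H hc)
    refine Types.FilteredColimit.isColimitOf' _ _ (fun (x : K.obj c.pt) => ?_) (fun j x y hxy => ?_)
    · obtain ⟨j, g, hg⟩ := Types.jointly_surjective_of_isColimit hG (ι.app c.pt x)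
      have h0 : ((forget (ModuleCat.{u} A)).mapCocone (H.mapCocone c)).ι.app j (τ.app (D.obj j) g) =
          ((forget (ModuleCat.{u} A)).mapCocone (H.mapCocone c)).ι.app j (0 : H.obj (D.obj j)) := by
        show H.map (c.ι.app j) (τ.app (D.obj j) g) = H.map (c.ι.app j) 0
        rw [map_zero, ← NatTrans.naturality_apply τ (c.ι.app j) g]
        exact (congrArg (τ.app c.pt) hg).trans ((hex c.pt _).2 ⟨x, rfl⟩)
      obtain ⟨k, f, hf⟩ := (Types.FilteredColimit.isColimit_eq_iff' hH _ _).1 h0
      have hk : τ.app (D.obj k) (G.map (D.map f) g) = 0 :=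
        (NatTrans.naturality_apply τ (D.map f) g).trans (hf.trans (map_zero (H.map (D.map f)).hom))
      obtain ⟨z, hz⟩ := (hex (D.obj k) _).1 hk
      refine ⟨k, z, hι c.pt ?_⟩
      refine Eq.trans ?_ (NatTrans.naturality_apply ι (c.ι.app k) z).symm
      rw [hz]
      show ι.app c.pt x = G.map (c.ι.app k) (G.map (D.map f) g)
      rw [← hg, ← ModuleCat.comp_apply, ← G.map_comp, c.w f]
      rfl
    · have h0 : G.map (c.ι.app j) (ι.app (D.obj j) x) = G.map (c.ι.app j) (ι.app (D.obj j) y) := by
        rw [← NatTrans.naturality_apply ι (c.ι.app j) x, ← NatTrans.naturality_apply ι (c.ι.app j) y]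
        exact congrArg (ι.app c.pt) hxy
      obtain ⟨k, f, hf⟩ := (Types.FilteredColimit.isColimit_eq_iff' hG _ _).1 h0
      refine ⟨k, f, hι (D.obj k) ?_⟩
      exact (NatTrans.naturality_apply ι (D.map f) x).trans
        (hf.trans (NatTrans.naturality_apply ι (D.map f) y).symm)⟩

/-- The short complex `(K ⊗ C N → P ⊗ C N → M ⊗ C N)` as a functor of `N`. -/
noncomputable def scMap (S : ShortComplex (ModuleCat.{u} A)) {N N' : ModuleCat.{u} A} (f : N ⟶ N') :
    DRingPC.tensorResSC (S := S) (res A N) ⟶ DRingPC.tensorResSC (S := S) (res A N') where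
  τ₁ := (((tensoringLeft _).obj S.X₁).mapHomologicalComplex _).map ((resFunctor A).map f)
  τ₂ := (((tensoringLeft _).obj S.X₂).mapHomologicalComplex _).map ((resFunctor A).map f)
  τ₃ := (((tensoringLeft _).obj S.X₃).mapHomologicalComplex _).map ((resFunctor A).map f)
  comm₁₂ := (NatTrans.mapHomologicalComplex ((tensoringLeft _).map S.f) _).naturality ((resFunctor A).map f)
  comm₂₃ := (NatTrans.mapHomologicalComplex ((tensoringLeft _).map S.g) _).naturality ((resFunctor A).map f)

theorem preservesColimitsOfShape_tor (p : ℕ) (M : ModuleCat.{u} A) (J : Type u) [SmallCategory J] [IsFiltered J] :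
    PreservesColimitsOfShape J ((CategoryTheory.Tor (ModuleCat.{u} A) p).obj M) := by
  induction p generalizing M with
  | zero =>
    exact preservesColimitsOfShape_of_natIso
      (Functor.leftDerivedZeroIsoSelf ((tensoringLeft (ModuleCat.{u} A)).obj M)).symm
  | succ p ih =>
    let P : ModuleCat.{u} A := (ModuleCat.free A).obj M
    let g : P ⟶ M := (ModuleCat.adj A).counit.app M
    haveI : Epi g := (ModuleCat.epi_iff_surjective _).2 fun m =>
      ⟨ModuleCat.freeMk m, ModuleCat.freeDesc_apply _ _⟩
    let S : ShortComplex (ModuleCat.{u} A) := ShortComplex.mk (kernel.ι g) g (kernel.condition g)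
    have hS : S.ShortExact := { exact := ShortComplex.exact_of_f_is_kernel _ (kernelIsKernel g) }
    haveI : Module.Flat A P := inferInstanceAs (Module.Flat A ((M : Type u) →₀ A))
    have hSE := fun N : ModuleCat.{u} A => DRingPC.tensorResSC_shortExact hS (res A N)
    let δ : torFun A M (p + 1) ⟶ torFun A S.X₁ p :=
      { app := fun N => (hSE N).δ (p + 1) p (by simp)
        naturality := fun N N' f =>
          (HomologicalComplex.HomologySequence.δ_naturality (scMap S f) (hSE N) (hSE N') (p + 1) p (by simp)).symm }
    let τ : torFun A S.X₁ p ⟶ torFun A P p :=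
      Functor.whiskerLeft (resFunctor A)
        (Functor.whiskerRight (NatTrans.mapHomologicalComplex ((tensoringLeft _).map S.f) _)
          (HomologicalComplex.homologyFunctor _ _ p))
    haveI := ih S.X₁
    haveI := ih P
    haveI : PreservesColimitsOfShape J (torFun A S.X₁ p) := preservesColimitsOfShape_of_natIso (torFunIso A _ p)
    haveI : PreservesColimitsOfShape J (torFun A P p) := preservesColimitsOfShape_of_natIso (torFunIso A _ p)
    haveI : PreservesColimitsOfShape J (torFun A M (p + 1)) := preserves_of_exact δ τ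
      (fun N => (ModuleCat.mono_iff_injective _).1
        ((hSE N).homology_exact₃ (p + 1) p (by simp) |>.mono_g
          ((DRingPC.isZero_tensorRes_of_flat P (res A N) p).eq_of_src _ _)))
      (fun N => (ShortComplex.ShortExact.moduleCat_exact_iff_function_exact _).1
        ((hSE N).homology_exact₁ (p + 1) p (by simp)))
    exact preservesColimitsOfShape_of_natIso (torFunIso A M (p + 1)).symm

end Groth.Agent.FTorColim
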