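import Groth.Agent.FTorColim.Basic

/-!
Homology of complexes of modules commutes with filtered colimits; `Tor` in the first variable commutes with
filtered colimits.
-/

set_option autoImplicit false
universe u

open CategoryTheory CategoryTheory.Limits MonoidalCategory

namespace Groth.Agent.FTorColim

variable {A : Type u} [CommRing A]

lemma preserves_of_exact_surjective {J : Type u} [SmallCategory J] [IsFiltered J]
    {C : Type*} [Category C] {G H K : C ⥤ ModuleCat.{u} A} (σ : G ⟶ H) (τ : H ⟶ K)
    (hτ : ∀ N, Function.Surjective (τ.app N)) (hex : ∀ N, Function.Exact (σ.app N) (τ.app N))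
    [PreservesColimitsOfShape J G] [PreservesColimitsOfShape J H] : PreservesColimitsOfShape J K where
  preservesColimit {D} := ⟨fun {c} hc => by
    refine ⟨isColimitOfReflects (forget (ModuleCat.{u} A)) ?_⟩
    have hG := isColimitOfPreserves (forget (ModuleCat.{u} A)) (isColimitOfPreserves G hc)
    have hH := isColimitOfPreserves (forget (ModuleCat.{u} A)) (isColimitOfPreserves H hc)
    refine Types.FilteredColimit.isColimitOf' _ _ (fun (x : K.obj c.pt) => ?_) (fun j x y hxy => ?_)
    · obtain ⟨h, rfl⟩ := hτ c.pt x
      obtain ⟨j, h', hh'⟩ := Types.jointly_surjective_of_isColimit hH h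
      exact ⟨j, τ.app (D.obj j) h',
        (congrArg (τ.app c.pt) hh').symm.trans (NatTrans.naturality_apply τ (c.ι.app j) h')⟩
    · obtain ⟨x', rfl⟩ := hτ (D.obj j) x
      obtain ⟨y', rfl⟩ := hτ (D.obj j) y
      have h0 : τ.app c.pt (H.map (c.ι.app j) (x' - y')) = 0 := by
        rw [map_sub, map_sub, NatTrans.naturality_apply τ, NatTrans.naturality_apply τ, sub_eq_zero]
        exact hxy
      obtain ⟨g, hg⟩ := (hex c.pt _).1 h0
      obtain ⟨i, g', hg'⟩ := Types.jointly_surjective_of_isColimit hG g
      let k := IsFiltered.max i j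
      have ea : G.map (c.ι.app k) (G.map (D.map (IsFiltered.leftToMax i j)) g') = G.map (c.ι.app i) g' := by
        rw [← ModuleCat.comp_apply, ← G.map_comp, c.w]
      have eb : H.map (c.ι.app k) (H.map (D.map (IsFiltered.rightToMax i j)) (x' - y')) =
          H.map (c.ι.app j) (x' - y') := by
        rw [← ModuleCat.comp_apply, ← H.map_comp, c.w]
      have e1 : H.map (c.ι.app k) (σ.app (D.obj k) (G.map (D.map (IsFiltered.leftToMax i j)) g')) =
          H.map (c.ι.app k) (H.map (D.map (IsFiltered.rightToMax i j)) (x' - y')) :=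
        (NatTrans.naturality_apply σ (c.ι.app k) _).symm.trans
          ((congrArg (σ.app c.pt) (ea.trans hg')).trans (hg.trans eb.symm))
      obtain ⟨l, f, hf⟩ := (Types.FilteredColimit.isColimit_eq_iff' hH _ _).1 e1
      refine ⟨l, IsFiltered.rightToMax i j ≫ f, ?_⟩
      have e2 : τ.app (D.obj k) (σ.app (D.obj k) (G.map (D.map (IsFiltered.leftToMax i j)) g')) = 0 :=
        (hex _ _).2 ⟨_, rfl⟩
      have e3 : τ.app (D.obj l) (H.map (D.map f) (H.map (D.map (IsFiltered.rightToMax i j)) (x' - y'))) = 0 :=
        (congrArg (τ.app (D.obj l)) hf.symm).trans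
          ((NatTrans.naturality_apply τ (D.map f) _).trans ((congrArg (K.map (D.map f)) e2).trans (map_zero _)))
      have e4 : H.map (D.map (IsFiltered.rightToMax i j ≫ f)) (x' - y') =
          H.map (D.map f) (H.map (D.map (IsFiltered.rightToMax i j)) (x' - y')) := by
        rw [D.map_comp, H.map_comp]; rfl
      rw [← e4, map_sub, map_sub,
        NatTrans.naturality_apply τ, NatTrans.naturality_apply τ, sub_eq_zero] at e3
      exact e3⟩

lemma preserves_of_exact_injective {J : Type u} [SmallCategory J] [IsFiltered J]
    {C : Type*} [Category C] {K G H : C ⥤ ModuleCat.{u} A} (ι : K ⟶ G) (τ : G ⟶ H)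
    (hι : ∀ N, Function.Injective (ι.app N)) (hex : ∀ N, Function.Exact (ι.app N) (τ.app N))
    [PreservesColimitsOfShape J G] [PreservesColimitsOfShape J H] : PreservesColimitsOfShape J K where
  preservesColimit {D} := ⟨fun {c} hc => by
    refine ⟨isColimitOfReflects (forget (ModuleCat.{u} A)) ?_⟩
    have hG := isColimitOfPreserves (forget (ModuleCat.{u} A)) (isColimitOfPreserves G hc)
    have hH := isColimitOfPreserves (forget (ModuleCat.{u} A)) (isColimitOfPreserves H hc)
    refine Types.FilteredColimit.isColimitOf' _ _ (fun (x : K.obj c.pt) => ?_) (fun j x y hxy => ?_)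
    · obtain ⟨j, g, hg⟩ := Types.jointly_surjective_of_isColimit hG (ι.app c.pt x)
      have h0 : ((forget (ModuleCat.{u} A)).mapCocone (H.mapCocone c)).ι.app j (τ.app (D.obj j) g) =
          ((forget (ModuleCat.{u} A)).mapCocone (H.mapCocone c)).ι.app j (0 : H.obj (D.obj j)) := by
        show H.map (c.ι.app j) (τ.app (D.obj j) g) = H.map (c.ι.app j) 0
        rw [map_zero, ← NatTrans.naturality_apply τ (c.ι.app j) g]
        exact (congrArg (τ.app c.pt) hg).trans ((hex c.pt _).2 ⟨x, rfl⟩)
      obtain ⟨k, f, hf⟩ := (Types.FilteredColimit.isColimit_eq_iff' hH _ _).1 h0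
      have hk : τ.app (D.obj k) (G.map (D.map f) g) = 0 :=
        (NatTrans.naturality_apply τ (D.map f) g).trans (hf.trans (map_zero (H.map (D.map f)).hom))
      obtain ⟨z, hz⟩ := (hex (D.obj k) _).1 hk
      refine ⟨k, z, hι c.pt ?_⟩
      refine Eq.trans ?_ (NatTrans.naturality_apply ι (c.ι.app k) z).symm
      rw [hz]
      show ι.app c.pt x = G.map (c.ι.app k) (G.map (D.map f) g)
      rw [← hg, ← ModuleCat.comp_apply, ← G.map_comp, c.w f]
      rfl
    · have h0 : G.map (c.ι.app j) (ι.app (D.obj j) x) = G.map (c.ι.app j) (ι.app (D.obj j) y) := by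
        rw [← NatTrans.naturality_apply ι (c.ι.app j) x, ← NatTrans.naturality_apply ι (c.ι.app j) y]
        exact congrArg (ι.app c.pt) hxy
      obtain ⟨k, f, hf⟩ := (Types.FilteredColimit.isColimit_eq_iff' hG _ _).1 h0
      refine ⟨k, f, hι (D.obj k) ?_⟩
      exact (NatTrans.naturality_apply ι (D.map f) x).trans
        (hf.trans (NatTrans.naturality_apply ι (D.map f) y).symm)⟩

/-- Homology of complexes of modules commutes with filtered colimits. -/
theorem preservesColimitsOfShape_homologyFunctor {I : Type*} (c : ComplexShape I) (n : I)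
    (J : Type u) [SmallCategory J] [IsFiltered J] :
    PreservesColimitsOfShape J (HomologicalComplex.homologyFunctor (ModuleCat.{u} A) c n) := by
  let ev := fun i : I => HomologicalComplex.eval (ModuleCat.{u} A) c i
  haveI : PreservesColimitsOfShape J (HomologicalComplex.cyclesFunctor (ModuleCat.{u} A) c n) :=
    preserves_of_exact_injective (G := ev n) (H := ev (c.next n))
      { app := fun X => X.iCycles n, naturality := fun X Y f => HomologicalComplex.cyclesMap_i f n }
      { app := fun X => X.d n (c.next n), naturality := fun X Y f => f.comm n (c.next n) }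
      (fun X => (ModuleCat.mono_iff_injective (X.iCycles n)).1 inferInstance)
      (fun X => (ShortComplex.ShortExact.moduleCat_exact_iff_function_exact _).1
        (ShortComplex.exact_of_f_is_kernel (ShortComplex.mk _ _ (X.iCycles_d n (c.next n)))
          (X.cyclesIsKernel n (c.next n) rfl)))
  exact preserves_of_exact_surjective (G := ev (c.prev n)) (H := HomologicalComplex.cyclesFunctor _ c n)
    { app := fun X => X.toCycles (c.prev n) n,
      naturality := fun X Y f => by
        refine (cancel_mono (Y.iCycles n)).1 ?_
        show (f.f (c.prev n) ≫ Y.toCycles (c.prev n) n) ≫ Y.iCycles n =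
          (X.toCycles (c.prev n) n ≫ HomologicalComplex.cyclesMap f n) ≫ Y.iCycles n
        rw [Category.assoc, Category.assoc, HomologicalComplex.toCycles_i, HomologicalComplex.cyclesMap_i,
          HomologicalComplex.toCycles_i_assoc, f.comm] }
    { app := fun X => X.homologyπ n,
      naturality := fun X Y f => (HomologicalComplex.homologyπ_naturality f n).symm }
    (fun X => (ModuleCat.epi_iff_surjective (X.homologyπ n)).1 inferInstance)
    (fun X => (ShortComplex.ShortExact.moduleCat_exact_iff_function_exact _).1
      (ShortComplex.exact_of_g_is_cokernel (ShortComplex.mk _ _ (X.toCycles_comp_homologyπ (c.prev n) n))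
        (X.homologyIsCokernel (c.prev n) n rfl)))

/-- `M ↦ M ⊗ P` for a fixed complex `P`. -/
noncomputable def tensorCx (P : ChainComplex (ModuleCat.{u} A) ℕ) :
    ModuleCat.{u} A ⥤ ChainComplex (ModuleCat.{u} A) ℕ where
  obj M := (((tensoringLeft (ModuleCat.{u} A)).obj M).mapHomologicalComplex _).obj P
  map f := (NatTrans.mapHomologicalComplex ((tensoringLeft (ModuleCat.{u} A)).map f) _).app P
  map_id M := by ext i : 1; exact MonoidalCategory.id_whiskerRight M (P.X i)
  map_comp f g := by ext i : 1; exact MonoidalCategory.comp_whiskerRight f g (P.X i)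

theorem preservesColimitsOfShape_tor_flip (p : ℕ) (N : ModuleCat.{u} A) (J : Type u) [SmallCategory J]
    [IsFiltered J] :
    PreservesColimitsOfShape J ((CategoryTheory.Tor (ModuleCat.{u} A) p).flip.obj N) := by
  let P := projectiveResolution N
  let F := tensorCx P.complex ⋙ HomologicalComplex.homologyFunctor (ModuleCat.{u} A) (ComplexShape.down ℕ) p
  haveI : PreservesColimitsOfShape J (tensorCx P.complex) :=
    HomologicalComplex.preservesColimitsOfShape_of_eval _ fun i =>
      show PreservesColimitsOfShape J (tensorRight (P.complex.X i)) from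
        preservesColimitsOfShape_of_natIso (BraidedCategory.tensorLeftIsoTensorRight (P.complex.X i))
  haveI := preservesColimitsOfShape_homologyFunctor (A := A) (ComplexShape.down ℕ) p J
  exact preservesColimitsOfShape_of_natIso (F := F)
    (NatIso.ofComponents (fun M => P.isoLeftDerivedObj ((tensoringLeft (ModuleCat.{u} A)).obj M) p) fun {M M'} f => by
      show (NatTrans.leftDerived ((tensoringLeft (ModuleCat.{u} A)).map f) p).app N ≫ _ = _
      rw [ProjectiveResolution.leftDerived_app_eq _ P, Category.assoc, Category.assoc]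
      erw [Iso.inv_hom_id, Category.comp_id]
      rfl).symm

end Groth.Agent.FTorColim
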