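import Groth.Agent.FTorColim.Balance
import Groth.Agent.DRingPC.TorDim
import Mathlib.RingTheory.FiniteLength
import Mathlib.RingTheory.Noetherian.Basic
import Mathlib.RingTheory.LocalRing.ResidueField.Basic
import Mathlib.RingTheory.SimpleModule.Basic
import Mathlib.RingTheory.Flat.Tensor
import Mathlib.LinearAlgebra.Prod

/-!
Vanishing and finiteness of `Tor` from short exact sequences in the first variable.
-/

set_option autoImplicit false
set_option linter.style.haveILetI false
universe u

open CategoryTheory CategoryTheory.Limits MonoidalCategory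

namespace Groth.Agent.FTorColim

open DRingPC (tensorRes torIso tensorResSC tensorResSC_shortExact isZero_tensorRes_of_flat)

variable {A : Type u} [CommRing A]

/-- local abbreviation -/
noncomputable abbrev T (p : ℕ) (M N : ModuleCat.{u} A) : ModuleCat.{u} A :=
  ((CategoryTheory.Tor (ModuleCat.{u} A) p).obj M).obj N

lemma isZero_tor_of_iso {M M' : ModuleCat.{u} A} (e : M ≅ M') {N : ModuleCat.{u} A} {p : ℕ}
    (h : IsZero (T p M N)) : IsZero (T p M' N) :=
  h.of_iso (((CategoryTheory.Tor (ModuleCat.{u} A) p).mapIso e).app N).symm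

lemma isZero_tor_succ_of_flat (M : ModuleCat.{u} A) [Module.Flat A M] (N : ModuleCat.{u} A) (q : ℕ) :
    IsZero (T (q + 1) M N) :=
  (isZero_tensorRes_of_flat M (projectiveResolution N) q).of_iso (torIso M _ _)

lemma isZero_tor_mid {S : ShortComplex (ModuleCat.{u} A)} (hS : S.ShortExact) (N : ModuleCat.{u} A)
    (p : ℕ) (h₁ : IsZero (T p S.X₁ N)) (h₃ : IsZero (T p S.X₃ N)) : IsZero (T p S.X₂ N) := by
  let P := projectiveResolution N
  have hT := tensorResSC_shortExact hS P
  refine IsZero.of_iso ?_ (torIso S.X₂ P p)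
  refine (hT.homology_exact₂ p).isZero_of_both_zeros ?_ ?_
  · exact (h₁.of_iso (torIso S.X₁ P p).symm).eq_of_src _ _
  · exact (h₃.of_iso (torIso S.X₃ P p).symm).eq_of_tgt _ _

lemma isZero_tor_left {S : ShortComplex (ModuleCat.{u} A)} (hS : S.ShortExact) (N : ModuleCat.{u} A)
    (p : ℕ) (h₃ : IsZero (T (p + 1) S.X₃ N)) (h₂ : IsZero (T p S.X₂ N)) : IsZero (T p S.X₁ N) := by
  let P := projectiveResolution N
  have hT := tensorResSC_shortExact hS P
  refine IsZero.of_iso ?_ (torIso S.X₁ P p)
  refine (hT.homology_exact₁ (p + 1) p (by simp)).isZero_of_both_zeros ?_ ?_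
  · exact (h₃.of_iso (torIso S.X₃ P (p + 1)).symm).eq_of_src _ _
  · exact (h₂.of_iso (torIso S.X₂ P p).symm).eq_of_tgt _ _

lemma flat_of_tor_one_fg {M : ModuleCat.{u} A} (h : ∀ I : Ideal A, I.FG →
    IsZero (((CategoryTheory.Tor (ModuleCat.{u} A) 1).obj M).obj (ModuleCat.of A (A ⧸ I)))) :
    Module.Flat A M := by
  rw [Module.Flat.iff_lTensor_injective]
  intro I hI
  let N := ModuleCat.of A (A ⧸ I)
  let P := projectiveResolution N
  let π : P.complex.X 0 →ₗ[A] (A ⧸ I) := (P.π.f 0).hom
  haveI : Module.Projective A (P.complex.X 0) := (IsProjective.iff_projective _).2 (P.projective 0)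
  have hπ : Function.Surjective π := (ModuleCat.epi_iff_surjective _).1 inferInstance
  have hK : Function.Injective ((LinearMap.ker π).subtype.lTensor M) := by
    let c : P.complex.X 1 →ₗ[A] LinearMap.ker π :=
      (P.complex.d 1 0).hom.codRestrict _ fun x =>
        ConcreteCategory.congr_hom P.complex_d_comp_π_f_zero x
    have hc : Function.Surjective c := fun ⟨y, hy⟩ => by
      obtain ⟨x, hx⟩ := ((ShortComplex.ShortExact.moduleCat_exact_iff_function_exact _).1
        P.exact₀ y).1 hy
      exact ⟨x, Subtype.ext hx⟩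
    rw [injective_iff_map_eq_zero]
    intro x hx
    obtain ⟨y, rfl⟩ := LinearMap.lTensor_surjective M hc x
    have h1 := (h I hI).of_iso (DRingPC.torIso M P 1).symm
    rw [← HomologicalComplex.exactAt_iff_isZero_homology,
      HomologicalComplex.exactAt_iff' _ 2 1 0 (by simp) (by simp),
      ShortComplex.ShortExact.moduleCat_exact_iff_function_exact] at h1
    rw [← LinearMap.lTensor_comp_apply] at hx
    obtain ⟨z, hz⟩ := (h1 y).1 hx
    rw [← hz]
    change c.lTensor M ((P.complex.d 2 1).hom.lTensor M z) = 0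
    have : c ∘ₗ (P.complex.d 2 1).hom = 0 := LinearMap.ext fun w => Subtype.ext
      (ConcreteCategory.congr_hom (P.complex.d_comp_d 2 1 0) w)
    have h2 := LinearMap.lTensor_comp M c (P.complex.d 2 1).hom
    rw [this, LinearMap.lTensor_zero] at h2
    exact (LinearMap.congr_fun h2.symm z)
  obtain ⟨ψ, hψ⟩ := Module.projective_lifting_property I.mkQ π (Submodule.mkQ_surjective I)
  obtain ⟨φ, hφ⟩ := Module.projective_lifting_property π I.mkQ hπ
  let φ' : I →ₗ[A] LinearMap.ker π := (φ ∘ₗ I.subtype).codRestrict _ fun x => by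
    rw [LinearMap.mem_ker, LinearMap.comp_apply, ← LinearMap.comp_apply π, hφ]
    exact (Submodule.Quotient.mk_eq_zero I).2 x.2
  let ψ' : LinearMap.ker π →ₗ[A] I := (ψ ∘ₗ (LinearMap.ker π).subtype).codRestrict _ fun x => by
    rw [← Submodule.Quotient.mk_eq_zero I, LinearMap.comp_apply, ← Submodule.mkQ_apply,
      ← LinearMap.comp_apply I.mkQ, hψ]
    exact x.2
  let g : A →ₗ[A] I := (ψ ∘ₗ φ - LinearMap.id).codRestrict _ fun a => by
    rw [← Submodule.Quotient.mk_eq_zero I, ← Submodule.mkQ_apply, LinearMap.sub_apply, map_sub,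
      LinearMap.comp_apply, ← LinearMap.comp_apply I.mkQ, hψ, ← LinearMap.comp_apply π, hφ]
    exact sub_self _
  have hg : ψ' ∘ₗ φ' = g ∘ₗ I.subtype + LinearMap.id := LinearMap.ext fun x => Subtype.ext (by
    simp [ψ', φ', g])
  rw [injective_iff_map_eq_zero]
  intro x hx
  have h1 : φ'.lTensor M x = 0 := hK (by
    rw [← LinearMap.lTensor_comp_apply, map_zero]
    change (φ ∘ₗ I.subtype).lTensor M x = 0
    rw [LinearMap.lTensor_comp_apply, hx, map_zero])
  have h2 : (ψ' ∘ₗ φ').lTensor M x = 0 := by rw [LinearMap.lTensor_comp_apply, h1, map_zero]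
  rwa [hg, LinearMap.lTensor_add, LinearMap.add_apply, LinearMap.lTensor_comp_apply, hx, map_zero,
    zero_add, LinearMap.lTensor_id_apply] at h2


lemma flat_iff_tor_one_fg (M : ModuleCat.{u} A) : Module.Flat A M ↔ ∀ I : Ideal A, I.FG →
    IsZero (T 1 M (ModuleCat.of A (A ⧸ I))) :=
  ⟨fun _ _ _ => isZero_tor_succ_of_flat M _ 0, flat_of_tor_one_fg⟩

lemma finite_tor [IsNoetherianRing A] (p : ℕ) : ∀ (M N : ModuleCat.{u} A) [Module.Finite A M]
    [Module.Finite A N], Module.Finite A (T p M N) := by
  induction p with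
  | zero =>
    intro M N _ _
    haveI : PreservesFiniteColimits ((tensoringLeft (ModuleCat.{u} A)).obj M) :=
      inferInstanceAs (PreservesFiniteColimits (tensorLeft M))
    exact Module.Finite.equiv
      (M := TensorProduct A M N)
      (((tensoringLeft (ModuleCat.{u} A)).obj M).leftDerivedZeroIsoSelf.app N).symm.toLinearEquiv
  | succ p ih =>
    intro M N _ _
    obtain ⟨n, g, hg⟩ := Module.Finite.exists_fin' A M
    let S : ShortComplex (ModuleCat.{u} A) := g.shortComplexKer
    have hS : S.ShortExact := LinearMap.shortExact_shortComplexKer hg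
    let P := projectiveResolution N
    have hT := tensorResSC_shortExact hS P
    haveI : Module.Flat A S.X₂ := inferInstanceAs (Module.Flat A (Fin n → A))
    haveI hδ : Mono (hT.δ (p + 1) p (by simp)) :=
      (hT.homology_exact₃ (p + 1) p (by simp)).mono_g
        ((isZero_tensorRes_of_flat S.X₂ P p).eq_of_src _ _)
    haveI : Module.Finite A S.X₁ := inferInstanceAs (Module.Finite A (LinearMap.ker g))
    haveI : Module.Finite A (T p S.X₁ N) := ih S.X₁ N
    let f : T (p + 1) S.X₃ N ⟶ T p S.X₁ N :=
      (torIso S.X₃ P (p + 1)).hom ≫ hT.δ (p + 1) p (by simp) ≫ (torIso S.X₁ P p).inv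
    exact Module.Finite.of_injective f.hom
      (((torIso S.X₁ P p).symm.toLinearEquiv.injective.comp ((ModuleCat.mono_iff_injective _).1 hδ)).comp
        (torIso S.X₃ P (p + 1)).toLinearEquiv.injective)

lemma isZero_tor_of_finiteLength [IsLocalRing A] (M : ModuleCat.{u} A) (p : ℕ)
    (h : IsZero (T p (ModuleCat.of A (IsLocalRing.ResidueField A)) M)) {N : Type u} [AddCommGroup N]
    [Module A N] (hN : IsFiniteLength A N) (h0 : ∀ X : ModuleCat.{u} A, IsZero X → IsZero (T p X M)) :
    IsZero (T p (ModuleCat.of A N) M) := by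
  induction hN with
  | @of_subsingleton N _ _ _ => exact h0 _ (ModuleCat.isZero_of_subsingleton _)
  | @of_simple_quotient N _ _ K _ _ ih =>
    let S : ShortComplex (ModuleCat.{u} A) := K.mkQ.shortComplexKer
    have hS : S.ShortExact := LinearMap.shortExact_shortComplexKer K.mkQ_surjective
    refine isZero_tor_mid hS M p ?_ ?_
    · exact isZero_tor_of_iso (M := ModuleCat.of A K)
        (LinearEquiv.ofEq _ _ (Submodule.ker_mkQ K).symm).toModuleIso ih
    · obtain ⟨I, hI, ⟨e⟩⟩ := (isSimpleModule_iff_quot_maximal (R := A) (M := N ⧸ K)).1 inferInstance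
      obtain rfl := IsLocalRing.eq_maximalIdeal hI
      exact isZero_tor_of_iso (M := ModuleCat.of A (IsLocalRing.ResidueField A)) e.symm.toModuleIso h

/-- `0 → {x ∈ X × Y | f x = g y} → X × Y → Z → 0`, with `X` flat. -/
lemma isZero_tor_pullback {X Y Z : Type u} [AddCommGroup X] [Module A X] [AddCommGroup Y]
    [Module A Y] [AddCommGroup Z] [Module A Z] [Module.Flat A X] (f : X →ₗ[A] Z)
    (hf : Function.Surjective f) (g : Y →ₗ[A] Z) (N : ModuleCat.{u} A) (q : ℕ)
    (hY : IsZero (T (q + 1) (ModuleCat.of A Y) N)) (hZ : IsZero (T (q + 2) (ModuleCat.of A Z) N)) :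
    IsZero (T (q + 1) (ModuleCat.of A (LinearMap.ker (f.coprod (-g)))) N) := by
  have hφ : Function.Surjective (f.coprod (-g)) := fun z => by
    obtain ⟨x, rfl⟩ := hf z
    exact ⟨(x, 0), by simp⟩
  have hsnd : Function.Surjective (LinearMap.snd A X Y) := LinearMap.snd_surjective
  have h2 : IsZero (T (q + 1) (ModuleCat.of A (X × Y)) N) := by
    refine isZero_tor_mid (LinearMap.shortExact_shortComplexKer hsnd) N (q + 1) ?_ hY
    let e : X ≃ₗ[A] LinearMap.ker (LinearMap.snd A X Y) :=
      { toFun := fun x => ⟨(x, 0), rfl⟩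
        invFun := fun z => z.1.1
        left_inv := fun _ => rfl
        right_inv := fun z => Subtype.ext (Prod.ext rfl z.2.symm)
        map_add' := fun _ _ => Subtype.ext (by simp)
        map_smul' := fun _ _ => Subtype.ext (by simp) }
    haveI : Module.Flat A (LinearMap.ker (LinearMap.snd A X Y)) := Module.Flat.of_linearEquiv e.symm
    exact @isZero_tor_succ_of_flat A _ (ModuleCat.of A (LinearMap.ker (LinearMap.snd A X Y)))
      (inferInstanceAs (Module.Flat A (LinearMap.ker (LinearMap.snd A X Y)))) N q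
  exact isZero_tor_left (LinearMap.shortExact_shortComplexKer hφ) N (q + 1) hZ h2

end Groth.Agent.FTorColim
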